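import Groth.Agent.FormCat.HenselDomain
import Mathlib.RingTheory.DiscreteValuationRing.TFAE
import Mathlib.RingTheory.DedekindDomain.IntegralClosure
import Mathlib.RingTheory.DedekindDomain.PID
import Mathlib.FieldTheory.IsSepClosed
import Mathlib.RingTheory.Filtration

/-!
# Algebraic extensions of the fraction field inside a discretely valued field

Let `V` be a henselian discrete valuation ring of characteristic zero with algebraically closed
residue field and `O` a discrete valuation ring dominating it. The algebraic closure of `Frac V` in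
`Frac O` is finite: its degree is at most the valuation of a uniformiser.
-/

set_option linter.style.haveILetI false

namespace Groth.Agent.H4Milnor

universe u

open IsLocalRing

variable (V : Type u) [CommRing V] [IsDomain V] [IsDiscreteValuationRing V] [HenselianLocalRing V]
  [IsAlgClosed (ResidueField V)] [CharZero V]
  (K : Type u) [Field K] [Algebra V K] [IsFractionRing V K]
  (O : Type u) [CommRing O] [IsDomain O] [IsDiscreteValuationRing O] [Algebra V O]
  [IsLocalHom (algebraMap V O)]
  (M : Type u) [Field M] [Algebra O M] [IsFractionRing O M] [Algebra V M] [Algebra K M]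
  [IsScalarTower V K M] [IsScalarTower V O M]

theorem finrank_le {ϖ : V} (hϖ : Irreducible ϖ) {N : ℕ}
    (hN : algebraMap V O ϖ ∉ maximalIdeal O ^ (N + 1))
    (E : IntermediateField K M) [FiniteDimensional K E] : Module.finrank K E ≤ N := by
  haveI : CharZero K := charZero_of_injective_algebraMap (IsFractionRing.injective V K)
  haveI : IsScalarTower V K E := inferInstance
  haveI : IsScalarTower V E M := IsScalarTower.of_algebraMap_eq fun v ↦ by
    rw [IsScalarTower.algebraMap_apply V K E, ← IsScalarTower.algebraMap_apply K E M,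
      IsScalarTower.algebraMap_apply V K M]
  let V' := integralClosure V E
  haveI : Module.Finite V V' := IsIntegralClosure.finite V K E V'
  haveI : IsDedekindDomain V' := IsIntegralClosure.isDedekindDomain V K E V'
  haveI : IsLocalRing V' := FormCat.isLocalRing_of_finite_domain V V'
  have hVE : Function.Injective (algebraMap V E) := by
    rw [IsScalarTower.algebraMap_eq V K E]
    exact (algebraMap K E).injective.comp (IsFractionRing.injective V K)
  have hVinj : Function.Injective (algebraMap V V') := fun a b h ↦
    hVE (congrArg Subtype.val h)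
  haveI : IsLocalHom (algebraMap V V') :=
    haveI := (faithfulSMul_iff_algebraMap_injective V V').mpr hVinj; Algebra.IsIntegral.isLocalHom V V'
  have hnf : ¬ IsField V' := fun hF ↦ by
    have h : IsUnit (algebraMap V V' ϖ) :=
      hF.mul_inv_cancel (fun h ↦ hϖ.ne_zero (hVinj (h.trans (map_zero _).symm))) |>.elim
        fun b hb ↦ IsUnit.of_mul_eq_one b hb
    exact hϖ.not_isUnit (isUnit_of_map_unit (algebraMap V V') _ h)
  haveI : IsDiscreteValuationRing V' :=
    ((IsDiscreteValuationRing.TFAE V' hnf).out 2 0).mp (inferInstance : IsDedekindDomain V')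
  obtain ⟨π, hπ⟩ := IsDiscreteValuationRing.exists_irreducible V'
  obtain ⟨e, u, he⟩ := IsDiscreteValuationRing.eq_unit_mul_pow_irreducible
    (x := algebraMap V V' ϖ) (fun h ↦ hϖ.ne_zero (hVinj (h.trans (map_zero _).symm))) hπ
  have he0 : e ≠ 0 := by
    rintro rfl
    rw [pow_zero, mul_one] at he
    exact hϖ.not_isUnit (isUnit_of_map_unit (algebraMap V V') _ (he ▸ u.isUnit))
  -- the residue extension is trivial
  haveI : Module.Finite (ResidueField V) (ResidueField V') := inferInstance
  have hres : ∀ x : V', ∃ v : V, ∃ z : V', x = algebraMap V V' v + π * z := by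
    intro x
    obtain ⟨c, hc⟩ := (IsAlgClosed.algebraMap_bijective_of_isIntegral
      (k := ResidueField V) (K := ResidueField V')).2 (residue V' x)
    obtain ⟨v, rfl⟩ := residue_surjective c
    refine ⟨v, ?_⟩
    have hx : x - algebraMap V V' v ∈ maximalIdeal V' := by
      rw [← residue_eq_zero_iff, map_sub, sub_eq_zero, ← hc]
      rfl
    rw [hπ.maximalIdeal_eq, Ideal.mem_span_singleton'] at hx
    obtain ⟨z, hz⟩ := hx
    exact ⟨z, by rw [mul_comm π z, hz]; ring⟩
  let g : Fin e → V' := fun i ↦ π ^ (i : ℕ)
  let S : Submodule V V' := Submodule.span V (Set.range g)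
  have hind : ∀ j ≤ e, ∀ x : V', ∃ s ∈ S, ∃ y : V', x = s + π ^ j * y := by
    intro j
    induction j with
    | zero => exact fun _ x ↦ ⟨0, S.zero_mem, x, by simp⟩
    | succ j ih =>
      intro hj x
      obtain ⟨s, hs, y, rfl⟩ := ih (Nat.le_of_succ_le hj) x
      obtain ⟨v, z, rfl⟩ := hres y
      refine ⟨s + v • g ⟨j, hj⟩, S.add_mem hs (S.smul_mem v (Submodule.subset_span ⟨_, rfl⟩)), z, ?_⟩
      rw [Algebra.smul_def]
      ring
  have hS : S = ⊤ := by
    refine top_le_iff.mp (Submodule.le_of_le_smul_of_le_jacobson_bot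
      (I := maximalIdeal V) Module.Finite.fg_top (maximalIdeal_le_jacobson ⊥) fun x _ ↦ ?_)
    obtain ⟨s, hs, y, rfl⟩ := hind e le_rfl x
    have hy : π ^ e * y = ϖ • ((u⁻¹ : V'ˣ) * y : V') := by
      rw [Algebra.smul_def, he]
      rw [mul_comm (u : V') (π ^ e), mul_assoc, ← mul_assoc (u : V'), Units.mul_inv, one_mul]
    refine Submodule.add_mem_sup hs ?_
    rw [hy]
    exact Submodule.smul_mem_smul ((mem_maximalIdeal _).mpr hϖ.not_isUnit) Submodule.mem_top
  have hspan : Submodule.span K (Set.range fun i ↦ (g i : E)) = ⊤ := by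
    rw [eq_top_iff]
    rintro x -
    obtain ⟨v, hv, hint⟩ := IsAlgebraic.exists_integral_multiple
      ((IsFractionRing.isAlgebraic_iff V K E).mpr (IsAlgebraic.of_finite K x))
    have hmem : (⟨v • x, hint⟩ : V') ∈ S := hS ▸ Submodule.mem_top
    have h2 : v • x ∈ Submodule.span K (Set.range fun i ↦ (g i : E)) := by
      have h3 := Submodule.apply_mem_span_image_of_mem_span V'.val.toLinearMap hmem
      rw [← Set.range_comp] at h3
      exact Submodule.span_le_restrictScalars V K _ h3
    have hv' : algebraMap V K v ≠ 0 := (map_ne_zero_iff _ (IsFractionRing.injective V K)).mpr hv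
    have := Submodule.smul_mem _ (algebraMap V K v)⁻¹ h2
    rwa [← IsScalarTower.algebraMap_smul K v x, inv_smul_smul₀ hv'] at this
  have hE : Module.finrank K E ≤ e := by
    have := finrank_range_le_card (R := K) (fun i ↦ (g i : E))
    rw [Set.finrank, hspan, finrank_top, Fintype.card_fin] at this
    exact this
  -- integral elements of `E` lie in `O`
  have hO : ∀ x : V', ∃ a : O, algebraMap O M a = algebraMap E M (x : E) := fun x ↦
    IsIntegrallyClosed.algebraMap_eq_of_integral
      ((x.2.map (IsScalarTower.toAlgHom V E M)).tower_top)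
  obtain ⟨a, ha⟩ := hO π
  obtain ⟨b, hb⟩ := hO ((u⁻¹ : V'ˣ) : V')
  obtain ⟨c, hc⟩ := hO (u : V')
  have hϖO : algebraMap O M (algebraMap V O ϖ) = algebraMap E M ((algebraMap V V' ϖ : V') : E) := by
    rw [← IsScalarTower.algebraMap_apply V O M, IsScalarTower.algebraMap_apply V E M]
    rfl
  have h1 : algebraMap V O ϖ = c * a ^ e := by
    apply IsFractionRing.injective O M
    rw [hϖO, he, map_mul, map_pow, ha, hc]
    simp
  have h2 : a ^ e = b * algebraMap V O ϖ := by
    apply IsFractionRing.injective O M
    rw [map_pow, map_mul, ha, hb, hϖO, he]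
    rw [← map_pow, ← map_mul]
    congr 1
    rw [← SubmonoidClass.coe_pow, ← MulMemClass.coe_mul]
    congr 1
    rw [← mul_assoc, Units.inv_mul, one_mul]
  have hϖm : algebraMap V O ϖ ∈ maximalIdeal O :=
    (mem_maximalIdeal _).mpr fun h ↦ hϖ.not_isUnit (isUnit_of_map_unit _ _ h)
  have hae : a ∈ maximalIdeal O := (maximalIdeal.isMaximal O).isPrime.mem_of_pow_mem e
    (h2 ▸ Ideal.mul_mem_left _ b hϖm)
  refine hE.trans ?_
  by_contra! hlt
  exact hN (h1 ▸ Ideal.mul_mem_left _ c (Ideal.pow_le_pow_right hlt (Ideal.pow_mem_pow hae e)))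

include V O in
theorem finiteDimensional_algebraicClosure : FiniteDimensional K (algebraicClosure K M) := by
  haveI : CharZero K := charZero_of_injective_algebraMap (IsFractionRing.injective V K)
  obtain ⟨ϖ, hϖ⟩ := IsDiscreteValuationRing.exists_irreducible V
  have hne : algebraMap V O ϖ ≠ 0 := fun h ↦ by
    have := congrArg (algebraMap O M) h
    rw [← IsScalarTower.algebraMap_apply, IsScalarTower.algebraMap_apply V K M, map_zero,
      map_eq_zero, map_eq_zero_iff _ (IsFractionRing.injective V K)] at this
    exact hϖ.ne_zero this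
  obtain ⟨N, hN⟩ : ∃ N, algebraMap V O ϖ ∉ maximalIdeal O ^ (N + 1) := by
    by_contra! h
    have hbot := Ideal.iInf_pow_eq_bot_of_isLocalRing (maximalIdeal O)
      (maximalIdeal.isMaximal O).ne_top
    have hmem : algebraMap V O ϖ ∈ ⨅ i, maximalIdeal O ^ i := by
      rw [Ideal.mem_iInf]
      intro i
      exact Ideal.pow_le_pow_right i.le_succ (h i)
    rw [hbot] at hmem
    exact hne hmem
  -- choose a finite extension of maximal degree
  classical
  let P : ℕ → Prop := fun n ↦ ∃ E : IntermediateField K M, FiniteDimensional K E ∧ Module.finrank K E = n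
  have hP : P 1 := ⟨⊥, inferInstance, IntermediateField.finrank_bot⟩
  have hle : ∀ n, P n → n ≤ N := by
    rintro n ⟨E, hE, rfl⟩
    exact finrank_le V K O M hϖ hN E
  obtain ⟨E, hE, hEn⟩ := Nat.findGreatest_spec (hle 1 hP) hP
  suffices h : algebraicClosure K M ≤ E from
    FiniteDimensional.of_injective (IntermediateField.inclusion h).toLinearMap
      (IntermediateField.inclusion h).injective
  intro x hx
  haveI := IntermediateField.adjoin.finiteDimensional (K := K) ((mem_algebraicClosure_iff.mp hx).isIntegral)
  let E' : IntermediateField K M := E ⊔ IntermediateField.adjoin K {x}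
  have hE' : FiniteDimensional K E' := IntermediateField.finiteDimensional_sup E _
  have h1 : Module.finrank K E' ≤ Module.finrank K E := by
    rw [hEn]
    exact Nat.le_findGreatest (hle _ ⟨E', hE', rfl⟩) ⟨E', hE', rfl⟩
  have h2 : E = E' := IntermediateField.eq_of_le_of_finrank_le le_sup_left h1
  rw [h2]
  exact (le_sup_right : IntermediateField.adjoin K {x} ≤ E')
    (IntermediateField.subset_adjoin K {x} rfl)

end Groth.Agent.H4Milnor
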