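import Groth.Agent.H4Milnor.Bound
import Groth.Agent.S13204
import Mathlib.RingTheory.Noetherian.OfPrime
import Mathlib.FieldTheory.PrimitiveElement
import Mathlib.RingTheory.FiniteStability

/-!
# Noetherianity of algebraic Milnor fibres

`L ⊗[V] B` is Noetherian for a strictly henselian discrete valuation ring `V` of characteristic zero
with perfect residue field, a Noetherian local `V`-algebra `B` with local structure map and an
algebraic closure `L` of `Frac V`.
-/

set_option linter.style.haveILetI false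

namespace Groth.Agent.H4Milnor

universe u

open IsLocalRing Polynomial
open scoped TensorProduct

/-- Powers of an element of an algebraically closed `L` stay linearly independent over a field
meeting `L` in the base field. -/
theorem eq_zero_of_eval₂_eq_zero {K L F Ω : Type*} [Field K] [Field L] [Field F] [Field Ω] [Algebra K L]
    [IsAlgClosed L] [Algebra.IsIntegral K L] (φ : L →+* Ω) (ρ : F →+* Ω) (θ : K →+* F)
    (hθ : ρ.comp θ = φ.comp (algebraMap K L))
    (h : ∀ l : L, φ l ∈ ρ.range → l ∈ (algebraMap K L).range)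
    (α : L) (P : F[X]) (hP : P.degree < (minpoly K α).degree) (h0 : P.eval₂ ρ (φ α) = 0) : P = 0 := by
  classical
  by_contra hP0
  letI : Algebra F Ω := ρ.toAlgebra
  have halg : IsAlgebraic F (φ α) := ⟨P, hP0, h0⟩
  set h₀ := minpoly F (φ α) with hh₀
  have hmon : h₀.Monic := minpoly.monic halg.isIntegral
  set G := minpoly K α with hG
  have hGmon : G.Monic := minpoly.monic (Algebra.IsIntegral.isIntegral α)
  have hGF : aeval (φ α) (G.map θ) = 0 := by
    rw [aeval_def, eval₂_map]
    change G.eval₂ (ρ.comp θ) (φ α) = 0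
    rw [hθ, ← hom_eval₂, ← aeval_def, minpoly.aeval, map_zero]
  have hdvd : h₀.map ρ ∣ (G.map (algebraMap K L)).map φ := by
    have h1 : h₀.map ρ ∣ (G.map θ).map ρ := Polynomial.map_dvd ρ (minpoly.dvd F (φ α) hGF)
    rwa [Polynomial.map_map, hθ, ← Polynomial.map_map] at h1
  have hsG : (G.map (algebraMap K L)).Splits := IsAlgClosed.splits _
  have hne : (G.map (algebraMap K L)).map φ ≠ 0 := ((hGmon.map _).map φ).ne_zero
  have hs : (h₀.map ρ).Splits := Polynomial.Splits.of_dvd (hsG.map φ) hne hdvd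
  have hlift : h₀.map ρ ∈ Polynomial.lifts φ := by
    rw [hs.eq_prod_roots_of_monic (hmon.map ρ)]
    refine multiset_prod_mem _ fun f hf ↦ ?_
    obtain ⟨r, hr, rfl⟩ := Multiset.mem_map.mp hf
    have hr' : r ∈ (G.map (algebraMap K L)).roots.map φ := by
      rw [← Polynomial.Splits.roots_map hsG φ]
      exact Multiset.mem_of_le (Polynomial.roots.le_of_dvd hne hdvd) hr
    obtain ⟨s, -, rfl⟩ := Multiset.mem_map.mp hr'
    exact ⟨X - C s, by simp⟩
  obtain ⟨h₁, hh₁, hdeg, hmon₁⟩ := lifts_and_degree_eq_and_monic hlift (hmon.map ρ)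
  have hlift₂ : h₁ ∈ Polynomial.lifts (algebraMap K L) := by
    rw [lifts_iff_coeff_lifts]
    intro n
    exact h _ ⟨h₀.coeff n, by rw [← coeff_map, ← hh₁, coeff_map]⟩
  obtain ⟨h₂, hh₂, hdeg₂, hmon₂⟩ := lifts_and_degree_eq_and_monic hlift₂ hmon₁
  have hα : aeval α h₂ = 0 := by
    refine φ.injective ?_
    rw [map_zero, ← eval_map_algebraMap, hh₂, ← eval_map_apply, hh₁, eval_map]
    exact minpoly.aeval F (φ α)
  have h3 : G.degree ≤ h₂.degree := minpoly.min K α hmon₂ hα
  have h4 : h₀.degree ≤ P.degree := minpoly.degree_le_of_ne_zero F (φ α) hP0 h0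
  rw [hdeg₂, hdeg, degree_map] at h3
  exact absurd (h3.trans h4) (not_le_of_gt hP)

section

variable (V : Type u) [CommRing V] [IsDomain V] [IsDiscreteValuationRing V]

theorem finiteType_fractionRing (K : Type u) [Field K] [Algebra V K] [IsFractionRing V K] :
    Algebra.FiniteType V K := by
  obtain ⟨ϖ, hϖ⟩ := IsDiscreteValuationRing.exists_irreducible V
  refine ⟨⟨{(algebraMap V K ϖ)⁻¹}, eq_top_iff.mpr fun x _ ↦ ?_⟩⟩
  obtain ⟨a, b, hb, rfl⟩ := IsFractionRing.div_surjective (A := V) x
  obtain ⟨n, u, rfl⟩ := IsDiscreteValuationRing.eq_unit_mul_pow_irreducible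
    (nonZeroDivisors.ne_zero hb) hϖ
  have : algebraMap V K a / algebraMap V K (u * ϖ ^ n) =
      algebraMap V K (a * (u⁻¹ : Vˣ)) * ((algebraMap V K ϖ)⁻¹) ^ n := by
    rw [map_mul, map_mul, map_pow, inv_pow, map_units_inv, div_eq_mul_inv, mul_inv]
    ring
  rw [this]
  exact Subalgebra.mul_mem _ (Subalgebra.algebraMap_mem _ _)
    (Subalgebra.pow_mem _ (Algebra.subset_adjoin (by simp)) n)

variable [HenselianLocalRing V] [IsSepClosed (ResidueField V)] [PerfectField (ResidueField V)]
  [CharZero V]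
  (L : Type u) [Field L] [IsAlgClosed L] [Algebra V L] [FaithfulSMul V L] [Algebra.IsAlgebraic V L]
  (B : Type u) [CommRing B] [IsLocalRing B] [IsNoetherianRing B] [Algebra V B]
  [IsLocalHom (algebraMap V B)]

theorem isNoetherianRing_tensor : IsNoetherianRing (L ⊗[V] B) := by
  classical
  haveI : IsAlgClosed (ResidueField V) := inferInstance
  refine IsNoetherianRing.of_prime fun Q hQ ↦ ?_
  let K := FractionRing V
  letI : Algebra K L := FractionRing.liftAlgebra V L
  haveI : CharZero K := charZero_of_injective_algebraMap (IsFractionRing.injective V K)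
  haveI hKL : Algebra.IsAlgebraic K L := ⟨fun x ↦
    (IsFractionRing.isAlgebraic_iff V K L).mp (Algebra.IsAlgebraic.isAlgebraic x)⟩
  let Ω := FractionRing ((L ⊗[V] B) ⧸ Q)
  let π : L ⊗[V] B →ₐ[V] Ω := (IsScalarTower.toAlgHom V _ Ω).comp (Ideal.Quotient.mkₐ V Q)
  have hπ : ∀ x, π x = 0 ↔ x ∈ Q := fun x ↦ by
    change algebraMap ((L ⊗[V] B) ⧸ Q) Ω (Ideal.Quotient.mk Q x) = 0 ↔ _
    rw [map_eq_zero_iff _ (IsFractionRing.injective _ _), Ideal.Quotient.eq_zero_iff_mem]
  let φ : L →ₐ[V] Ω := π.comp Algebra.TensorProduct.includeLeft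
  let ψ : B →ₐ[V] Ω := π.comp Algebra.TensorProduct.includeRight
  let J : Ideal B := RingHom.ker ψ.toRingHom
  haveI : J.IsPrime := RingHom.ker_isPrime ψ.toRingHom
  let A := B ⧸ J
  haveI : IsLocalRing A :=
    IsLocalRing.of_surjective' (Ideal.Quotient.mk J) Ideal.Quotient.mk_surjective
  haveI : IsLocalHom (Ideal.Quotient.mk J) :=
    Function.Surjective.isLocalHom _ Ideal.Quotient.mk_surjective
  let ψ' : A →+* Ω := RingHom.kerLift ψ.toRingHom
  have hψ' : Function.Injective ψ' := RingHom.kerLift_injective _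
  have hm : ∀ v ∈ maximalIdeal V, Ideal.Quotient.mk J (algebraMap V B v) ∈ maximalIdeal A := by
    intro v hv
    refine (mem_maximalIdeal _).mpr fun h ↦ (mem_maximalIdeal _).mp hv ?_
    exact isUnit_of_map_unit (algebraMap V B) _ (isUnit_of_map_unit (Ideal.Quotient.mk J) _ h)
  obtain ⟨ϖ, hϖ⟩ := IsDiscreteValuationRing.exists_irreducible V
  have hVΩ : Function.Injective (algebraMap V Ω) := by
    rw [← φ.comp_algebraMap]
    exact φ.toRingHom.injective.comp (FaithfulSMul.algebraMap_injective V L)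
  have hA : ¬ IsField A := fun hF ↦ by
    have h1 : Ideal.Quotient.mk J (algebraMap V B ϖ) = 0 :=
      Ideal.mem_bot.mp ((IsLocalRing.isField_iff_maximalIdeal_eq.mp hF) ▸
        hm ϖ ((mem_maximalIdeal _).mpr hϖ.not_isUnit))
    rw [Ideal.Quotient.eq_zero_iff_mem, RingHom.mem_ker] at h1
    exact hϖ.ne_zero (hVΩ (((ψ.commutes ϖ).symm.trans h1).trans (map_zero _).symm))
  obtain ⟨O, _, _, _, f, hf, hfinj⟩ := S13204.exists_dvr_dominating A hA
  letI : Algebra V O := (f.comp ((Ideal.Quotient.mk J).comp (algebraMap V B))).toAlgebra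
  haveI : IsLocalHom (algebraMap V O) := ⟨fun v hv ↦ by
    by_contra h
    exact (mem_maximalIdeal _).mp (hf _ (hm v ((mem_maximalIdeal _).mpr h))) hv⟩
  let M := FractionRing O
  let F := FractionRing A
  let χ : F →+* M := IsFractionRing.lift (g := (algebraMap O M).comp f)
    ((IsFractionRing.injective O M).comp hfinj)
  let ρ : F →+* Ω := IsFractionRing.lift hψ'
  have hρV : ∀ v : V, ρ (algebraMap A F (Ideal.Quotient.mk J (algebraMap V B v))) = algebraMap V Ω v :=
    fun v ↦ (IsFractionRing.lift_algebraMap _ _).trans (ψ.commutes v)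
  have hVM : Function.Injective (algebraMap V M) := by
    intro a b hab
    refine hVΩ ?_
    rw [← hρV, ← hρV]
    refine congrArg ρ (congrArg (algebraMap A F) (hfinj ?_))
    exact IsFractionRing.injective O M hab
  letI : Algebra K M := (IsFractionRing.lift hVM).toAlgebra
  haveI : IsScalarTower V K M := IsScalarTower.of_algebraMap_eq fun v ↦
    (IsFractionRing.lift_algebraMap hVM v).symm
  haveI := finiteDimensional_algebraicClosure V K O M
  -- the intermediate field `L ∩ F`
  have hKρ : ∀ x : K, φ (algebraMap K L x) ∈ ρ.fieldRange := by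
    intro x
    obtain ⟨a, b, hb, rfl⟩ := IsFractionRing.div_surjective (A := V) x
    rw [map_div₀, map_div₀, ← IsScalarTower.algebraMap_apply, ← IsScalarTower.algebraMap_apply,
      φ.commutes, φ.commutes]
    exact div_mem ⟨_, hρV a⟩ ⟨_, hρV b⟩
  let K₁ : IntermediateField K L := (ρ.fieldRange.comap φ.toRingHom).toIntermediateField hKρ
  let e : F ≃+* ρ.fieldRange := RingEquiv.ofBijective ρ.rangeRestrictField
    ρ.rangeRestrictField_bijective
  let θ : K₁ →+* F := e.symm.toRingHom.comp
    ((φ.toRingHom.comp K₁.val.toRingHom).codRestrict ρ.fieldRange fun x ↦ x.2)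
  have hθ : ∀ x : K₁, ρ (θ x) = φ (x : L) := fun x ↦
    congrArg Subtype.val (e.apply_symm_apply
      ⟨φ (x : L), x.2⟩)
  have hτ : ∀ x : K, χ (θ (algebraMap K K₁ x)) = algebraMap K M x := by
    refine RingHom.congr_fun (f := (χ.comp θ).comp (algebraMap K K₁))
      (IsLocalization.ringHom_ext (nonZeroDivisors V) (RingHom.ext fun v ↦ ?_))
    have h1 : θ (algebraMap K K₁ (algebraMap V K v)) =
        algebraMap A F (Ideal.Quotient.mk J (algebraMap V B v)) := by
      refine ρ.injective ?_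
      rw [hθ, hρV]
      change φ (algebraMap K L (algebraMap V K v)) = _
      rw [← IsScalarTower.algebraMap_apply, φ.commutes]
    change χ (θ (algebraMap K K₁ (algebraMap V K v))) = algebraMap K M (algebraMap V K v)
    rw [h1, ← IsScalarTower.algebraMap_apply]
    exact IsFractionRing.lift_algebraMap _ _
  let τ : K₁ →ₐ[K] M := ⟨χ.comp θ, hτ⟩
  haveI : Algebra.IsAlgebraic K K₁ := Algebra.IsAlgebraic.tower_bot K K₁ L
  haveI : FiniteDimensional K K₁ := by
    let τ' : K₁ →ₐ[K] (algebraicClosure K M).toSubalgebra := τ.codRestrict _ fun x ↦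
      mem_algebraicClosure_iff.mpr ((Algebra.IsAlgebraic.isAlgebraic (R := K) x).algHom τ)
    exact FiniteDimensional.of_injective τ'.toLinearMap
      (fun a b h ↦ τ.toRingHom.injective (congrArg Subtype.val h))
  haveI := finiteType_fractionRing V K
  haveI : IsScalarTower V K K₁ := inferInstance
  haveI : Algebra.FiniteType V K₁ := Algebra.FiniteType.trans (S := K) inferInstance inferInstance
  haveI : IsNoetherianRing (B ⊗[V] K₁) := Algebra.FiniteType.isNoetherianRing B _
  haveI : IsNoetherianRing (K₁ ⊗[V] B) := isNoetherianRing_of_ringEquiv _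
    (Algebra.TensorProduct.comm V B K₁).toRingEquiv
  haveI : IsScalarTower V K₁ L := IsScalarTower.of_algebraMap_eq fun v ↦ by
    rw [IsScalarTower.algebraMap_apply V K K₁, ← IsScalarTower.algebraMap_apply K K₁ L,
      IsScalarTower.algebraMap_apply V K L]
  let g : K₁ ⊗[V] B →ₐ[V] L ⊗[V] B :=
    Algebra.TensorProduct.map (IsScalarTower.toAlgHom V K₁ L) (AlgHom.id V B)
  suffices hQ' : Q ≤ (Q.comap g).map g by
    rw [le_antisymm hQ' Ideal.map_comap_le]
    exact Ideal.FG.map (IsNoetherian.noetherian _) _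
  intro x hx
  obtain ⟨s, rfl⟩ := TensorProduct.exists_finset x
  haveI : CharZero K₁ := charZero_of_injective_algebraMap (algebraMap K K₁).injective
  haveI : Algebra.IsAlgebraic K₁ L := Algebra.IsAlgebraic.tower_top (K := K) K₁
  haveI : Algebra.IsIntegral K₁ L := Algebra.IsAlgebraic.isIntegral
  let E : IntermediateField K₁ L := IntermediateField.adjoin K₁ (s.image Prod.fst : Finset L)
  haveI : FiniteDimensional K₁ E :=
    IntermediateField.finiteDimensional_adjoin fun z _ ↦ Algebra.IsIntegral.isIntegral z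
  obtain ⟨⟨α, hαE⟩, hα⟩ := Field.exists_primitive_element K₁ E
  let G := minpoly K₁ α
  have hGm : G.Monic := minpoly.monic (Algebra.IsIntegral.isIntegral α)
  have hpol : ∀ l : L × B, ∃ P : K₁[X], l ∈ s → P.degree < G.degree ∧ aeval α P = l.1 := by
    intro l
    by_cases hl : l ∈ s
    · have h1 : (⟨l.1, IntermediateField.subset_adjoin K₁ _
          (Finset.mem_coe.mpr (Finset.mem_image_of_mem Prod.fst hl))⟩ : E) ∈
          IntermediateField.adjoin K₁ {(⟨α, hαE⟩ : E)} := hα ▸ IntermediateField.mem_top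
      rw [← IntermediateField.mem_toSubalgebra,
        IntermediateField.adjoin_simple_toSubalgebra_of_isAlgebraic
          (IsAlgebraic.of_finite K₁ _), Algebra.adjoin_singleton_eq_range_aeval] at h1
      obtain ⟨P, hP⟩ := h1
      refine ⟨P %ₘ G, fun _ ↦ ⟨degree_modByMonic_lt P hGm, ?_⟩⟩
      rw [aeval_modByMonic_eq_self_of_root (minpoly.aeval K₁ α)]
      have h2 : E.val (aeval (⟨α, hαE⟩ : E) P) = l.1 := congrArg E.val hP
      rw [← aeval_algHom_apply] at h2
      exact h2
    · exact ⟨0, fun h ↦ absurd h hl⟩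
  choose P hP using hpol
  let y : ℕ → K₁ ⊗[V] B := fun i ↦ ∑ l ∈ s, ((P l).coeff i) ⊗ₜ[V] l.2
  have hx' : (∑ l ∈ s, l.1 ⊗ₜ[V] l.2) =
      ∑ i ∈ Finset.range G.natDegree, ((α ^ i) ⊗ₜ[V] (1 : B)) * g (y i) := by
    simp only [y, map_sum, Finset.mul_sum, g, Algebra.TensorProduct.map_tmul,
      IsScalarTower.coe_toAlgHom', AlgHom.id_apply, Algebra.TensorProduct.tmul_mul_tmul, one_mul]
    rw [Finset.sum_comm]
    refine Finset.sum_congr rfl fun l hl ↦ ?_
    rw [← TensorProduct.sum_tmul]
    congr 1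
    obtain ⟨h1, h2⟩ := hP l hl
    conv_lhs => rw [← h2, aeval_eq_sum_range' (n := G.natDegree) (by
      rcases eq_or_ne (P l) 0 with h | h
      · rw [h, natDegree_zero]
        exact minpoly.natDegree_pos (Algebra.IsIntegral.isIntegral α)
      · exact (natDegree_lt_natDegree_iff h).mpr h1) α]
    exact Finset.sum_congr rfl fun i _ ↦ by rw [Algebra.smul_def, mul_comm]
  let z : ℕ → F := fun i ↦
    ∑ l ∈ s, θ ((P l).coeff i) * algebraMap A F (Ideal.Quotient.mk J l.2)
  have hz : ∀ i, π (g (y i)) = ρ (z i) := by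
    intro i
    simp only [y, z, map_sum, map_mul, hθ]
    refine Finset.sum_congr rfl fun l _ ↦ ?_
    rw [show ρ (algebraMap A F (Ideal.Quotient.mk J l.2)) = ψ l.2 from
      IsFractionRing.lift_algebraMap _ _]
    change π (g (_ ⊗ₜ l.2)) = π (_ ⊗ₜ 1) * π (1 ⊗ₜ l.2)
    rw [← map_mul, Algebra.TensorProduct.tmul_mul_tmul, mul_one, one_mul]
    rfl
  let R : F[X] := ∑ i ∈ Finset.range G.natDegree, C (z i) * X ^ i
  have hR : R = 0 := by
    refine eq_zero_of_eval₂_eq_zero φ.toRingHom ρ θ (RingHom.ext fun x ↦ hθ x)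
      (fun l hl ↦ ⟨⟨l, hl⟩, rfl⟩) α R ?_ ?_
    · rw [degree_eq_natDegree hGm.ne_zero]
      refine (degree_sum_le _ _).trans_lt ((Finset.sup_lt_iff (WithBot.bot_lt_coe _)).mpr fun i hi ↦ ?_)
      exact (degree_C_mul_X_pow_le i _).trans_lt (WithBot.coe_lt_coe.mpr (Finset.mem_range.mp hi))
    · rw [eval₂_finset_sum]
      rw [← (hπ _).mpr hx, hx', map_sum]
      refine Finset.sum_congr rfl fun i _ ↦ ?_
      rw [eval₂_mul, eval₂_C, eval₂_X_pow, map_mul, hz, mul_comm (ρ (z i))]
      change φ α ^ i * _ = φ (α ^ i) * _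
      rw [map_pow]
  rw [hx']
  refine Ideal.sum_mem _ fun i hi ↦ Ideal.mul_mem_left _ _ (Ideal.mem_map_of_mem g ?_)
  rw [Ideal.mem_comap, ← hπ, hz]
  have hc : R.coeff i = 0 := by rw [hR, coeff_zero]
  simp only [R, finset_sum_coeff, coeff_C_mul_X_pow, Finset.sum_ite_eq, hi, if_true] at hc
  rw [hc, map_zero]

end

end Groth.Agent.H4Milnor
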